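import Groth.Agent.SepCrit.Basic
import Groth.Agent.Neutral0.Basic
import Groth.Agent.GrpSch.Action
import Groth.Agent.GrpSch.FieldTop
import Mathlib.AlgebraicGeometry.Morphisms.UniversallyOpen
import Mathlib.AlgebraicGeometry.Morphisms.FinitePresentation

/-!
# A scheme with a transitive action of a universally open group with connected fibres is separated
-/

set_option autoImplicit false
set_option backward.isDefEq.respectTransparency.types false

universe u

open CategoryTheory MonoidalCategory CartesianMonoidalCategory MonObj GrpObj Limits AlgebraicGeometry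
open Groth.Agent.GrpSch Groth.Agent.Neutral0
open scoped CategoryTheory.Obj

namespace Groth.Agent.SepCrit

variable {S : Scheme.{u}} (G : Over S) [GrpObj G]

lemma irreducibleSpace_GK [LocallyOfFiniteType G.hom]
    (hconn : ∀ s : S, _root_.IsConnected (G.hom.base ⁻¹' {s}))
    {K : Type u} [Field K] (σ : Spec (CommRingCat.of K) ⟶ S) : IrreducibleSpace (GK σ G).left := by
  have hG : ∀ s, LocallyOfFiniteType (G.hom.fiberToSpecResidueField s) := fun s =>
    MorphismProperty.pullback_snd _ _ inferInstance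
  have hN : SGA3x.neutralSet G = Set.univ := Set.eq_univ_of_forall fun x =>
    mem_neutralSet.2 (((hconn _).isPreconnected.connectedComponentIn (hom_one _)).ge rfl)
  have := locallyOfFiniteType_GK σ hG
  have h := preimage_neutralSet σ hG
  rw [hN, Set.preimage_univ, GrpSch.connectedComponent_eq] at h
  refine (irreducibleSpace_def _).2 ?_
  show IsIrreducible (Set.univ : Set (GK σ G).left)
  rw [h]
  exact isIrreducible_irreducibleComponent

theorem isSeparated_of_transitive [LocallyOfFiniteType G.hom] [UniversallyOpen G.hom]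
    (hconn : ∀ s : S, _root_.IsConnected (G.hom.base ⁻¹' {s}))
    (X : Over S) (a : AlgGrp.Action G X) (hΦ : Surjective (lift a.act (snd G X)).left) :
    IsSeparated X.hom := by
  refine isSeparated_of_reduced_test X.hom fun T _ g₁ g₂ UT hw hUT hag => ?_
  let To : Over S := Over.mk (g₁ ≫ X.hom)
  let e₁ : To ⟶ X := Over.homMk g₁ rfl
  let e₂ : To ⟶ X := Over.homMk g₂ hw.symm
  let q : (G ⊗ To).left ⟶ T := (snd G To).left
  have hqo : UniversallyOpen q := property_snd G To inferInstance
  have key : ∀ t₀ : T, ∃ T₀ : T.Opens, t₀ ∈ T₀ ∧ T₀.ι ≫ g₁ = T₀.ι ≫ g₂ := by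
    intro t₀
    obtain ⟨_, ⟨(U : X.left.Opens), hU, rfl⟩, hxU, -⟩ := X.left.isBasis_affineOpens.exists_subset_of_mem_open
      (Set.mem_univ (g₁ t₀)) isOpen_univ
    have : IsAffine U.toScheme := hU
    have : IsSeparated (U.ι ≫ X.hom) := by
      have : IsSeparated ((U.ι ≫ X.hom) ≫ terminal.from S) := by
        rw [terminal.comp_from]; infer_instance
      exact IsSeparated.of_comp (U.ι ≫ X.hom) (terminal.from S)
    let b₁ : G ⊗ To ⟶ X := (G ◁ e₁) ≫ a.act
    let b₂ : G ⊗ To ⟶ X := (G ◁ e₂) ≫ a.act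
    let O : (G ⊗ To).left.Opens := b₁.left ⁻¹ᵁ U ⊓ b₂.left ⁻¹ᵁ U
    let T₀ : T.Opens := ⟨q '' O, q.isOpenMap _ O.2⟩
    refine ⟨T₀, ?_, ?_⟩
    · -- the two open conditions meet in the irreducible fibre over `t₀`
      have hne : ∀ e : To ⟶ X, X.hom (g₁ t₀) = X.hom (e.left t₀) →
          ((q ⁻¹' {t₀}) ∩ ((G ◁ e) ≫ a.act).left ⁻¹' U).Nonempty := by
        intro e he
        obtain ⟨ζ, hζ1, hζ2⟩ := Scheme.Pullback.exists_preimage_pullback (f := X.hom) (g := X.hom)
          (g₁ t₀) (e.left t₀) he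
        obtain ⟨z, rfl⟩ := hΦ.surj ζ
        have hz1 : a.act.left z = g₁ t₀ := by
          rw [← hζ1]
          exact congrArg (fun (f : (G ⊗ X).left ⟶ X.left) => f z)
            (congrArg CommaMorphism.left (lift_fst a.act (snd G X))).symm
        have hz2 : (snd G X).left z = e.left t₀ := by
          rw [← hζ2]
          exact congrArg (fun (f : (G ⊗ X).left ⟶ X.left) => f z)
            (congrArg CommaMorphism.left (lift_snd a.act (snd G X))).symm
        obtain ⟨w, hw1, hw2⟩ := Scheme.exists_preimage_of_isPullback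
          (isPullback_left (isPullback_whiskerLeft G e)) z t₀ hz2
        refine ⟨w, hw2, ?_⟩
        show a.act.left ((G ◁ e).left w) ∈ U
        rw [hw1, hz1]
        exact hxU
      have hirr : IsIrreducible (q ⁻¹' {t₀}) := by
        let σ : Spec (CommRingCat.of ↑(T.residueField t₀)) ⟶ S := fromPt t₀ ≫ To.hom
        have := irreducibleSpace_GK G hconn σ
        let φ : (GK σ G).left ⟶ (G ⊗ To).left :=
          pullback.map G.hom σ G.hom To.hom (𝟙 _) (fromPt t₀) (𝟙 _) (by simp) (by simp [σ])
        have hφ : Set.range φ = q ⁻¹' {t₀} := by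
          have := Scheme.Pullback.range_map G.hom σ G.hom To.hom (𝟙 _) (fromPt t₀) (𝟙 _)
            (by simp) (by simp [σ])
          rw [this]
          have hr : Set.range (fromPt t₀) = {t₀} := T.range_fromSpecResidueField t₀
          rw [hr]
          simp
          rfl
        rw [← hφ, ← Set.image_univ]
        exact (IrreducibleSpace.isIrreducible_univ _).image _ φ.continuous.continuousOn
      obtain ⟨w, hw, hwO⟩ := hirr.2 _ _ (b₁.left ⁻¹ᵁ U).2 (b₂.left ⁻¹ᵁ U).2
        (hne e₁ rfl) (hne e₂ (congrArg (fun (f : T ⟶ S) => f t₀) hw))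
      exact ⟨w, hwO, hw⟩
    · let I := Scheme.IdealSheafData.vanishingIdeal (⊤ : TopologicalSpace.Closeds O.toScheme)
      let r₀ := I.subschemeι
      have hr : Set.range r₀ = Set.univ := by
        rw [Scheme.IdealSheafData.range_subschemeι, Scheme.IdealSheafData.coe_support_vanishingIdeal]
        simp
      let Po : Over S := Over.mk (r₀ ≫ O.ι ≫ (G ⊗ To).hom)
      let π : Po ⟶ G ⊗ To := Over.homMk (r₀ ≫ O.ι) (Category.assoc _ _ _)
      let x₁ : Po ⟶ X := π ≫ snd G To ≫ e₁
      let x₂ : Po ⟶ X := π ≫ snd G To ≫ e₂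
      let γ : Po ⟶ G := π ≫ fst G To
      have hπ : ∀ e : To ⟶ X, π ≫ (G ◁ e) ≫ a.act = lift γ (π ≫ snd G To ≫ e) ≫ a.act := by
        intro e
        rw [← Category.assoc]
        congr 1
        apply CartesianMonoidalCategory.hom_ext <;> simp [γ]
      let D : I.subscheme.Opens := (r₀ ≫ O.ι ≫ q) ⁻¹ᵁ UT
      have hD : Dense (D : Set I.subscheme) := by
        have hh : IsOpenMap r₀ :=
          (Topology.IsEmbedding.toHomeomorphOfSurjective r₀.isEmbedding (Set.range_eq_univ.1 hr)).isOpenMap
        exact hUT.preimage ((q.isOpenMap.comp O.ι.isOpenEmbedding.isOpenMap).comp hh)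
      have hDx : D.ι ≫ x₁.left = D.ι ≫ x₂.left := by
        let μD := IsOpenImmersion.lift UT.ι (D.ι ≫ r₀ ≫ O.ι ≫ q) (by
          rw [Scheme.Opens.range_ι]
          rintro _ ⟨w, rfl⟩
          exact w.2)
        have hμ : μD ≫ UT.ι = D.ι ≫ r₀ ≫ O.ι ≫ q := IsOpenImmersion.lift_fac _ _ _
        have := congrArg (μD ≫ ·) hag
        simp only [← Category.assoc, hμ] at this
        simp only [x₁, x₂, π, Over.comp_left, Category.assoc] at this ⊢
        exact this
      have hc : lift γ x₁ ≫ a.act = lift γ x₂ ≫ a.act := by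
        apply Over.OverMorphism.ext
        have hmem : ∀ (b : G ⊗ To ⟶ X), O ≤ b.left ⁻¹ᵁ U →
            Set.range (π ≫ b).left ⊆ Set.range U.ι := by
          rintro b hb _ ⟨w, rfl⟩
          rw [Scheme.Opens.range_ι]
          exact hb (r₀ w).2
        let c₁ := IsOpenImmersion.lift U.ι (π ≫ b₁).left (hmem b₁ inf_le_left)
        let c₂ := IsOpenImmersion.lift U.ι (π ≫ b₂).left (hmem b₂ inf_le_right)
        have f₁ : c₁ ≫ U.ι = (π ≫ b₁).left := IsOpenImmersion.lift_fac _ _ _
        have f₂ : c₂ ≫ U.ι = (π ≫ b₂).left := IsOpenImmersion.lift_fac _ _ _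
        have : IsReduced Po.left := (inferInstance : IsReduced I.subscheme)
        have h12 : c₁ = c₂ := by
          refine reduced_test (U.ι ≫ X.hom) c₁ c₂ D ?_ hD ?_
          · rw [← Category.assoc, ← Category.assoc, f₁, f₂, Over.w, Over.w]
          · rw [← cancel_mono U.ι, Category.assoc, Category.assoc, f₁, f₂]
            let Do : Over S := Over.mk (D.ι ≫ Po.hom)
            let δ : Do ⟶ Po := Over.homMk D.ι rfl
            have hδ : δ ≫ x₁ = δ ≫ x₂ := Over.OverMorphism.ext hDx
            have : δ ≫ π ≫ b₁ = δ ≫ π ≫ b₂ := by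
              simp only [b₁, b₂, hπ]
              rw [comp_lift_assoc, comp_lift_assoc]
              exact congrArg (fun y => lift (δ ≫ γ) y ≫ a.act) hδ
            exact congrArg CommaMorphism.left this
        rw [← hπ e₁, ← hπ e₂]
        exact f₁.symm.trans (h12 ▸ f₂)
      have hcancel : ∀ x : Po ⟶ X, lift γ⁻¹ (lift γ x ≫ a.act) ≫ a.act = x := fun x => by
        rw [← act_mul, inv_mul_cancel, act_one]
      have hx : x₁ = x₂ := by rw [← hcancel x₁, ← hcancel x₂, hc]
      let ρ : I.subscheme ⟶ T₀.toScheme := IsOpenImmersion.lift T₀.ι (r₀ ≫ O.ι ≫ q) (by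
        rw [Scheme.Opens.range_ι]
        rintro _ ⟨w, rfl⟩
        exact ⟨_, (r₀ w).2, rfl⟩)
      have hρ : ρ ≫ T₀.ι = r₀ ≫ O.ι ≫ q := IsOpenImmersion.lift_fac _ _ _
      have : Surjective ρ := ⟨fun t => by
        obtain ⟨w, hwO, hwt⟩ := t.2
        obtain ⟨w', hw'⟩ := Set.range_eq_univ.1 hr ⟨w, hwO⟩
        refine ⟨w', T₀.ι.isOpenEmbedding.injective ?_⟩
        rw [← Scheme.Hom.comp_apply, hρ, Scheme.Hom.comp_apply, hw']
        exact hwt⟩
      have : IsReduced T₀.toScheme := isReduced_of_isOpenImmersion T₀.ι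
      refine eq_of_surjective X.hom (T₀.ι ≫ g₁) (T₀.ι ≫ g₂) ?_ ρ ?_
      · rw [Category.assoc, Category.assoc, hw]
      · rw [← Category.assoc, ← Category.assoc, hρ]
        have := congrArg CommaMorphism.left hx
        simp only [x₁, x₂, π, Over.comp_left, Category.assoc] at this ⊢
        exact this
  choose T₀ hmem heq using key
  have hsup : TopologicalSpace.IsOpenCover T₀ :=
    top_le_iff.1 fun x _ => TopologicalSpace.Opens.mem_iSup.2 ⟨x, hmem x⟩
  exact Scheme.Cover.hom_ext (T.openCoverOfIsOpenCover T₀ hsup) _ _ heq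

end Groth.Agent.SepCrit
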