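import Groth.Agent.Neutral0.Basic
import Groth.Agent.GrpSch.Action
import Groth.Agent.GrpSch.FieldTop
import Groth.Agent.GrpSch.Points
import Groth.Agent.FlatMorLib.MaxPoints
import Mathlib.FieldTheory.IsAlgClosed.AlgebraicClosure

/-!
# Preimages of fibrewise dense opens under transitive orbit maps are dense
-/

set_option autoImplicit false
set_option backward.isDefEq.respectTransparency.types false

universe u

open CategoryTheory MonoidalCategory CartesianMonoidalCategory MonObj GrpObj Limits AlgebraicGeometry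
open Groth.Agent.GrpSch Groth.Agent.Neutral0
open scoped CategoryTheory.Obj

namespace Groth.Agent.SepCrit

variable {S : Scheme.{u}} (X : Over S) {K : Type u} [Field K] (σ : Spec (CommRingCat.of K) ⟶ S)

/-- The base change to a field point, to the fibre. -/
lemma exists_toFibre :
    ∃ (s : S) (ψ : (GK σ X).left ⟶ (GK (fromPt s) X).left) (t : Spec (CommRingCat.of K) ⟶ Spec (CommRingCat.of ↑(S.residueField s))),
      IsPullback ψ (GK σ X).hom (GK (fromPt s) X).hom t ∧ ψ ≫ pr (fromPt s) X = pr σ X ∧ t ≫ fromPt s = σ := by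
  let s := σ (IsLocalRing.closedPoint K)
  obtain ⟨t, ht⟩ : ∃ t : Spec (CommRingCat.of K) ⟶ Spec (CommRingCat.of ↑(S.residueField s)),
      t ≫ fromPt s = σ :=
    ⟨_, Scheme.descResidueField_stalkClosedPointTo_fromSpecResidueField K S σ⟩
  let ψ : (GK σ X).left ⟶ (GK (fromPt s) X).left :=
    pullback.lift (pr σ X) (pullback.snd X.hom σ ≫ t) (by
      rw [Category.assoc, ht]; exact pullback.condition)
  refine ⟨s, ψ, t, ?_, pullback.lift_fst _ _ _, ht⟩
  refine IsPullback.of_right (h₁₂ := pr (fromPt s) X) (v₁₃ := X.hom) (h₂₂ := fromPt s) ?_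
    (pullback.lift_snd _ _ _) (IsPullback.of_hasPullback _ _)
  rw [show ψ ≫ pr (fromPt s) X = pr σ X from pullback.lift_fst _ _ _, ht]
  exact IsPullback.of_hasPullback _ _

lemma locallyOfFiniteType_GK' (hft : ∀ s : S, LocallyOfFiniteType (X.hom.fiberToSpecResidueField s)) :
    LocallyOfFiniteType (GK σ X).hom := by
  obtain ⟨s, ψ, t, h, -, -⟩ := exists_toFibre X σ
  exact MorphismProperty.of_isPullback (P := @LocallyOfFiniteType) h (hft s)

lemma dense_preimage_GK (U : X.left.Opens)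
    (hU : ∀ s : S, s = σ (IsLocalRing.closedPoint K) →
      X.hom.base ⁻¹' {s} ⊆ closure ((U : Set X.left) ∩ X.hom.base ⁻¹' {s})) :
    Dense (pr σ X ⁻¹' U) := by
  obtain ⟨s, ψ, t, h, hψ, hσ⟩ := exists_toFibre X σ
  have : UniversallyOpen ψ := MorphismProperty.of_isPullback (P := @UniversallyOpen) h.flip inferInstance
  have hr : Set.range (pr (fromPt s) X) = X.hom ⁻¹' {s} := by
    rw [show Set.range (pr (fromPt s) X) = X.hom ⁻¹' Set.range (fromPt s) from Scheme.Pullback.range_fst _ _]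
    exact congrArg (X.hom ⁻¹' ·) (S.range_fromSpecResidueField s)
  have hd : Dense (pr (fromPt s) X ⁻¹' U) := by
    intro z
    rw [(pullback.fst X.hom (fromPt s)).isEmbedding.isInducing.closure_eq_preimage_closure_image]
    show pr (fromPt s) X z ∈ closure (pr (fromPt s) X '' (pr (fromPt s) X ⁻¹' U))
    rw [Set.image_preimage_eq_inter_range, hr]
    refine hU s ?_ ?_
    · have hs : s = fromPt s (t (IsLocalRing.closedPoint K)) :=
        (S.fromSpecResidueField_apply s _).symm
      rw [hs]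
      exact congrArg (fun (f : Spec (CommRingCat.of K) ⟶ S) => f (IsLocalRing.closedPoint K)) hσ
    · exact hr.le ⟨z, rfl⟩
  have := hd.preimage ψ.isOpenMap
  rwa [← Set.preimage_comp, ← TopCat.coe_comp, ← Scheme.Hom.comp_base, hψ] at this

/-- For a transitive action, the preimage of a fibrewise dense open under the orbit map of a
field-valued point is dense. -/
theorem dense_preimage_orbit [IsAlgClosed K] {G : Over S} [GrpObj G]
    (hG : ∀ s : S, LocallyOfFiniteType (G.hom.fiberToSpecResidueField s))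
    {X : Over S} (hft : ∀ s : S, LocallyOfFiniteType (X.hom.fiberToSpecResidueField s))
    (a : AlgGrp.Action G X) (hΦ : Surjective (lift a.act (snd G X)).left)
    (σ : Spec (CommRingCat.of K) ⟶ S) (x : Over.mk σ ⟶ X) (U : X.left.Opens)
    (hU : ∀ s : S, s = σ (IsLocalRing.closedPoint K) →
      X.hom.base ⁻¹' {s} ⊆ closure ((U : Set X.left) ∩ X.hom.base ⁻¹' {s})) :
    Dense ((lift (fst G (Over.mk σ)) (snd G (Over.mk σ) ≫ x) ≫ a.act).left ⁻¹' U) := by
  let Ko : Over S := Over.mk σ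
  let b : G ⊗ Ko ⟶ X := lift (fst G Ko) (snd G Ko ≫ x) ≫ a.act
  let f : G ⊗ Ko ⟶ X ⊗ Ko := lift b (snd G Ko)
  have hf : f ≫ fst X Ko = b := lift_fst _ _
  have hG' := locallyOfFiniteType_GK σ hG
  have hX' := locallyOfFiniteType_GK' X σ hft
  have : IsLocallyNoetherian (GK σ X).left := LocallyOfFiniteType.isLocallyNoetherian (GK σ X).hom
  -- maximal points of `X ⊗ Ko` lie over `U`
  have hmax : ∀ ξ : ↥(X ⊗ Ko).left, (∀ y, y ⤳ ξ → y = ξ) → (fst X Ko).left ξ ∈ U := fun ξ hξ =>
    FlatMorLib.mem_of_dense_of_maximal (X := (GK σ X).left) (U := pr σ X ⁻¹ᵁ U)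
      (dense_preimage_GK X σ U hU) hξ
  -- the orbit map is surjective
  have hfs : ∀ ξ : ↥(X ⊗ Ko).left, ∃ g, f.left g = ξ := by
    intro ξ
    let j : X ⊗ Ko ⟶ X ⊗ X := lift (fst X Ko) (snd X Ko ≫ x)
    obtain ⟨z, hz⟩ := hΦ.surj (j.left ξ)
    obtain ⟨P, p, v, w, hvw, hv, hw⟩ := exists_common_point (lift a.act (snd G X)) j z ξ hz
    refine ⟨(lift (v ≫ fst G X) (w ≫ snd X Ko)).left p, ?_⟩
    have h1 := congrArg (fun q => q ≫ fst X X) hvw
    have h2 := congrArg (fun q => q ≫ snd X X) hvw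
    simp only [Category.assoc, j, lift_fst, lift_snd] at h1 h2
    have e : lift (v ≫ fst G X) (w ≫ snd X Ko) ≫ f = w := by
      apply CartesianMonoidalCategory.hom_ext
      · simp only [Category.assoc, f, b, lift_fst, comp_lift_assoc, lift_snd_assoc]
        rw [← h2, ← h1]
        conv_rhs => rw [show v ≫ a.act = (lift (v ≫ fst G X) (v ≫ snd G X)) ≫ a.act by
          rw [← comp_lift]; simp]
      · simp [f]
    rw [← comp_left_apply, e, hw]
  have hne : Nonempty ↥(X ⊗ Ko).left :=
    ⟨(lift x (𝟙 Ko)).left (IsLocalRing.closedPoint K)⟩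
  obtain ⟨ξ, -, hξ⟩ := FlatMorLib.exists_maximal_generization hne.some
  obtain ⟨g, hg⟩ := hfs ξ
  have hrat : ∀ (O : Set ↥(G ⊗ Ko).left), IsOpen O → O.Nonempty →
      ∃ c : Ko ⟶ G, (lift c (𝟙 Ko)).left (IsLocalRing.closedPoint K) ∈ O := by
    intro O hO hne
    obtain ⟨p, hp⟩ := exists_ratPoint_mem (GK σ G) hO hne
    have hps : p.left ≫ pullback.snd G.hom σ = 𝟙 _ := Over.w p
    let c : Ko ⟶ G := Over.homMk (p.left ≫ pr σ G) (by
      rw [Category.assoc]
      show p.left ≫ pullback.fst G.hom σ ≫ G.hom = σ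
      rw [pullback.condition, ← Category.assoc, hps, Category.id_comp])
    refine ⟨c, ?_⟩
    have : (lift c (𝟙 Ko)).left = p.left := by
      rw [Over.lift_left]
      apply pullback.hom_ext
      · rw [pullback.lift_fst]; rfl
      · rw [pullback.lift_snd]; exact hps.symm
    rw [this]
    exact hp
  intro w
  let C : Set ↥(G ⊗ Ko).left := irreducibleComponent w
  have hCo : IsOpen C := isOpen_irreducibleComponent (GK σ G) w
  let D : Set ↥(G ⊗ Ko).left := irreducibleComponent g
  have hDo : IsOpen D := isOpen_irreducibleComponent (GK σ G) g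
  obtain ⟨c, hc⟩ := hrat C hCo ⟨w, mem_irreducibleComponent⟩
  obtain ⟨d, hd⟩ := hrat D hDo ⟨g, mem_irreducibleComponent⟩
  let h : Ko ⟶ G := c * d⁻¹
  let τG : G ⊗ Ko ⟶ G ⊗ Ko := lift ((snd G Ko ≫ h) * fst G Ko) (snd G Ko)
  let τX : X ⊗ Ko ⟶ X ⊗ Ko := lift (lift (snd X Ko ≫ h) (fst X Ko) ≫ a.act) (snd X Ko)
  let τX' : X ⊗ Ko ⟶ X ⊗ Ko := lift (lift (snd X Ko ≫ h⁻¹) (fst X Ko) ≫ a.act) (snd X Ko)
  have hτ : τX' ≫ τX = 𝟙 _ ∧ τX ≫ τX' = 𝟙 _ := by
    constructor <;> apply CartesianMonoidalCategory.hom_ext <;>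
      simp [τX, τX', comp_lift_assoc, ← act_mul, GrpObj.comp_inv, MonObj.comp_mul, act_one]
  have hnat : τG ≫ f = f ≫ τX := by
    apply CartesianMonoidalCategory.hom_ext
    · simp [τG, τX, f, b, comp_lift_assoc, act_mul]
    · simp [τG, τX, f]
  let eX : X ⊗ Ko ≅ X ⊗ Ko := ⟨τX, τX', hτ.2, hτ.1⟩
  have : IsIso τX.left := ((Over.forget S).mapIso eX).isIso_hom
  have hξ' : ∀ y, y ⤳ τX.left ξ → y = τX.left ξ := by
    intro y hy
    obtain ⟨y', rfl⟩ := τX.left.homeomorph.surjective y
    exact congrArg _ (hξ y' (τX.left.homeomorph.isInducing.specializes_iff.1 hy))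
  have hτC : τG.left g ∈ C := by
    have h1 : τG.left ((lift d (𝟙 Ko)).left (IsLocalRing.closedPoint K)) =
        (lift c (𝟙 Ko)).left (IsLocalRing.closedPoint K) := by
      have e : lift d (𝟙 Ko) ≫ τG = lift c (𝟙 Ko) := by
        apply CartesianMonoidalCategory.hom_ext <;> simp [τG, h, MonObj.comp_mul, GrpObj.comp_inv]
      rw [← comp_left_apply, e]
    have hirr : IsIrreducible (τG.left '' D) :=
      isIrreducible_irreducibleComponent.image _ τG.left.continuous.continuousOn
    obtain ⟨Z, hZ, hle⟩ := exists_mem_irreducibleComponents_subset_of_isIrreducible _ hirr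
    have hZC : Z = C := eq_of_mem_irreducibleComponents (GK σ G) hZ
      (irreducibleComponent_mem_irreducibleComponents w) (hle ⟨_, hd, h1⟩) hc
    exact hZC ▸ hle ⟨g, mem_irreducibleComponent, rfl⟩
  have hU' : b.left (τG.left g) ∈ U := by
    rw [← hf, comp_left_apply, show f.left (τG.left g) = τX.left ξ by
      rw [← comp_left_apply, hnat, comp_left_apply, hg]]
    exact hmax _ hξ'
  have hC : C ⊆ closure (C ∩ b.left ⁻¹' U) :=
    subset_closure_inter_of_isPreirreducible_of_isOpen isIrreducible_irreducibleComponent.2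
      (U.2.preimage b.left.continuous) ⟨_, hτC, hU'⟩
  exact closure_mono Set.inter_subset_right (hC mem_irreducibleComponent)

end Groth.Agent.SepCrit
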