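import Groth.Agent.SepCrit.Basic
import Groth.Agent.SepCrit.DenseOrbit
import Mathlib.AlgebraicGeometry.Morphisms.FinitePresentation

/-!
# Separatedness of a scheme with a transitive action and a fibrewise dense separated open
-/

set_option autoImplicit false
set_option backward.isDefEq.respectTransparency.types false

universe u

open CategoryTheory MonoidalCategory CartesianMonoidalCategory MonObj GrpObj Limits AlgebraicGeometry
open Groth.Agent.GrpSch Groth.Agent.Neutral0
open scoped CategoryTheory.Obj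

namespace Groth.Agent.SepCrit

variable {S : Scheme.{u}}

theorem isSeparated_of_transitive_dense (G X : Over S) [GrpObj G] [LocallyOfFiniteType G.hom]
    (hGo : ∃ W : G.left.Opens, (∀ p : ↥(𝟙_ (Over S)).left, η[G].left.base p ∈ W) ∧ UniversallyOpen (W.ι ≫ G.hom))
    (a : AlgGrp.Action G X) (hΦ : Surjective (lift a.act (snd G X)).left)
    (hft : ∀ s : S, LocallyOfFiniteType (X.hom.fiberToSpecResidueField s))
    (hU : ∀ s : S, ∃ U : X.left.Opens, IsSeparated (U.ι ≫ X.hom) ∧
      X.hom.base ⁻¹' {s} ⊆ closure ((U : Set X.left) ∩ X.hom.base ⁻¹' {s})) :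
    IsSeparated X.hom := by
  obtain ⟨W, hW, hWo⟩ := hGo
  refine isSeparated_of_reduced_test X.hom fun T _ g₁ g₂ UT hw hUT hag => ?_
  let To : Over S := Over.mk (g₁ ≫ X.hom)
  let Wo : Over S := Over.mk (W.ι ≫ G.hom)
  let j : Wo ⟶ G := Over.homMk W.ι rfl
  let e₁ : To ⟶ X := Over.homMk g₁ rfl
  let e₂ : To ⟶ X := Over.homMk g₂ hw.symm
  let q : (Wo ⊗ To).left ⟶ T := (snd Wo To).left
  have hqo : UniversallyOpen q := property_snd Wo To hWo
  have key : ∀ t₀ : T, ∃ T₀ : T.Opens, t₀ ∈ T₀ ∧ T₀.ι ≫ g₁ = T₀.ι ≫ g₂ := by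
    intro t₀
    obtain ⟨U, hUsep, hUd⟩ := hU (X.hom (g₁ t₀))
    let b₁ : Wo ⊗ To ⟶ X := (j ▷ To) ≫ (G ◁ e₁) ≫ a.act
    let b₂ : Wo ⊗ To ⟶ X := (j ▷ To) ≫ (G ◁ e₂) ≫ a.act
    let O : (Wo ⊗ To).left.Opens := b₁.left ⁻¹ᵁ U ⊓ b₂.left ⁻¹ᵁ U
    let T₀ : T.Opens := ⟨q '' O, q.isOpenMap _ O.2⟩
    refine ⟨T₀, ?_, ?_⟩
    · let L := AlgebraicClosure ↑(T.residueField t₀)
      let qK : Spec (CommRingCat.of L) ⟶ T :=
        Spec.map (CommRingCat.ofHom (algebraMap ↑(T.residueField t₀) L)) ≫ T.fromSpecResidueField t₀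
      have hqK : ∀ p, qK p = t₀ := fun p => T.fromSpecResidueField_apply t₀ _
      let σ : Spec (CommRingCat.of L) ⟶ S := qK ≫ To.hom
      let Ko : Over S := Over.mk σ
      let xb : Ko ⟶ To := Over.homMk qK rfl
      have hGlft : ∀ s, LocallyOfFiniteType (G.hom.fiberToSpecResidueField s) := fun s =>
        MorphismProperty.pullback_snd _ _ inferInstance
      have hs : σ (IsLocalRing.closedPoint L) = X.hom (g₁ t₀) := by
        show To.hom (qK (IsLocalRing.closedPoint L)) = _
        rw [hqK]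
        rfl
      have hd : ∀ e : To ⟶ X, Dense (((G ◁ xb) ≫ (G ◁ e) ≫ a.act).left ⁻¹' (U : Set X.left)) := by
        intro e
        have h := dense_preimage_orbit hGlft hft a hΦ σ (xb ≫ e) U
          (fun s h' => by rw [h', hs]; exact hUd)
        have heq : (G ◁ xb) ≫ (G ◁ e) ≫ a.act =
            lift (fst G Ko) (snd G Ko ≫ xb ≫ e) ≫ a.act := by
          rw [← Category.assoc]
          congr 1
          apply CartesianMonoidalCategory.hom_ext <;> simp
        rw [heq]
        exact h
      let W' : Set ↥(G ⊗ Ko).left := (fst G Ko).left ⁻¹' (W : Set G.left)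
      have hW'ne : W'.Nonempty := by
        refine ⟨(lift (1 : Ko ⟶ G) (𝟙 Ko)).left (IsLocalRing.closedPoint L), ?_⟩
        show (fst G Ko).left _ ∈ W
        rw [← comp_left_apply, lift_fst, one_eq_toUnit, comp_left_apply]
        exact hW _
      have hW'o : IsOpen W' := W.2.preimage (fst G Ko).left.continuous
      have hne := (hd e₁).inter_open_nonempty _ hW'o hW'ne
      obtain ⟨w, ⟨hwW, hw1⟩, hw2⟩ := (hd e₂).inter_open_nonempty _
        (hW'o.inter (U.2.preimage ((G ◁ xb) ≫ (G ◁ e₁) ≫ a.act).left.continuous)) hne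
      have hmem : (G ◁ xb).left w ∈ Set.range (j ▷ To).left := by
        have hjr : Set.range (j ▷ To).left = (fst G To).left ⁻¹' (W : Set G.left) := by
          have h := Scheme.Pullback.range_map Wo.hom To.hom G.hom To.hom W.ι (𝟙 _) (𝟙 _)
            (by simp [Wo]) (by simp)
          have e : (j ▷ To).left = pullback.map Wo.hom To.hom G.hom To.hom W.ι (𝟙 _) (𝟙 _)
            (by simp [Wo]) (by simp) := by
            refine pullback.hom_ext ?_ ?_
            · rw [pullback.lift_fst]
              exact congrArg CommaMorphism.left (whiskerRight_fst j To)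
            · rw [pullback.lift_snd, Category.comp_id]
              exact congrArg CommaMorphism.left (whiskerRight_snd j To)
          rw [e, h, Scheme.Opens.range_ι]
          simp
        rw [hjr]
        show (fst G To).left ((G ◁ xb).left w) ∈ W
        rw [← comp_left_apply, whiskerLeft_fst]
        exact hwW
      obtain ⟨w', hw'⟩ := hmem
      refine ⟨w', ⟨?_, ?_⟩, ?_⟩
      · show ((G ◁ e₁) ≫ a.act).left ((j ▷ To).left w') ∈ U
        rw [hw']
        exact hw1
      · show ((G ◁ e₂) ≫ a.act).left ((j ▷ To).left w') ∈ U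
        rw [hw']
        exact hw2
      · have : (snd G To).left ((j ▷ To).left w') = q w' := by
          rw [← comp_left_apply, whiskerRight_snd]
        rw [← this, hw', ← comp_left_apply, whiskerLeft_snd, comp_left_apply]
        exact hqK _
    · let I := Scheme.IdealSheafData.vanishingIdeal (⊤ : TopologicalSpace.Closeds O.toScheme)
      let r₀ := I.subschemeι
      have hr : Set.range r₀ = Set.univ := by
        rw [Scheme.IdealSheafData.range_subschemeι, Scheme.IdealSheafData.coe_support_vanishingIdeal]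
        simp
      let Po : Over S := Over.mk (r₀ ≫ O.ι ≫ (Wo ⊗ To).hom)
      let π : Po ⟶ Wo ⊗ To := Over.homMk (r₀ ≫ O.ι) (Category.assoc _ _ _)
      let x₁ : Po ⟶ X := π ≫ snd Wo To ≫ e₁
      let x₂ : Po ⟶ X := π ≫ snd Wo To ≫ e₂
      let γ : Po ⟶ G := π ≫ fst Wo To ≫ j
      have hπ : ∀ e : To ⟶ X, π ≫ (j ▷ To) ≫ (G ◁ e) ≫ a.act = lift γ (π ≫ snd Wo To ≫ e) ≫ a.act := by
        intro e
        rw [← Category.assoc, ← Category.assoc]
        congr 1
        apply CartesianMonoidalCategory.hom_ext <;> simp [γ]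
      let D : I.subscheme.Opens := (r₀ ≫ O.ι ≫ q) ⁻¹ᵁ UT
      have hD : Dense (D : Set I.subscheme) := by
        have hh : IsOpenMap r₀ :=
          (Topology.IsEmbedding.toHomeomorphOfSurjective r₀.isEmbedding (Set.range_eq_univ.1 hr)).isOpenMap
        exact hUT.preimage ((q.isOpenMap.comp O.ι.isOpenEmbedding.isOpenMap).comp hh)
      have hDx : D.ι ≫ x₁.left = D.ι ≫ x₂.left := by
        let μD := IsOpenImmersion.lift UT.ι (D.ι ≫ r₀ ≫ O.ι ≫ q) (by
          rw [Scheme.Opens.range_ι]
          rintro _ ⟨w, rfl⟩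
          exact w.2)
        have hμ : μD ≫ UT.ι = D.ι ≫ r₀ ≫ O.ι ≫ q := IsOpenImmersion.lift_fac _ _ _
        have := congrArg (μD ≫ ·) hag
        simp only [← Category.assoc, hμ] at this
        simp only [x₁, x₂, π, Over.comp_left, Category.assoc] at this ⊢
        exact this
      have hc : lift γ x₁ ≫ a.act = lift γ x₂ ≫ a.act := by
        apply Over.OverMorphism.ext
        have hmem : ∀ (b : Wo ⊗ To ⟶ X), O ≤ b.left ⁻¹ᵁ U →
            Set.range (π ≫ b).left ⊆ Set.range U.ι := by
          rintro b hb _ ⟨w, rfl⟩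
          rw [Scheme.Opens.range_ι]
          exact hb (r₀ w).2
        let c₁ := IsOpenImmersion.lift U.ι (π ≫ b₁).left (hmem b₁ inf_le_left)
        let c₂ := IsOpenImmersion.lift U.ι (π ≫ b₂).left (hmem b₂ inf_le_right)
        have f₁ : c₁ ≫ U.ι = (π ≫ b₁).left := IsOpenImmersion.lift_fac _ _ _
        have f₂ : c₂ ≫ U.ι = (π ≫ b₂).left := IsOpenImmersion.lift_fac _ _ _
        have : IsReduced Po.left := (inferInstance : IsReduced I.subscheme)
        have h12 : c₁ = c₂ := by
          refine reduced_test (U.ι ≫ X.hom) c₁ c₂ D ?_ hD ?_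
          · rw [← Category.assoc, ← Category.assoc, f₁, f₂, Over.w, Over.w]
          · rw [← cancel_mono U.ι, Category.assoc, Category.assoc, f₁, f₂]
            let Do : Over S := Over.mk (D.ι ≫ Po.hom)
            let δ : Do ⟶ Po := Over.homMk D.ι rfl
            have hδ : δ ≫ x₁ = δ ≫ x₂ := Over.OverMorphism.ext hDx
            have : δ ≫ π ≫ b₁ = δ ≫ π ≫ b₂ := by
              simp only [b₁, b₂, hπ]
              rw [comp_lift_assoc, comp_lift_assoc]
              exact congrArg (fun y => lift (δ ≫ γ) y ≫ a.act) hδ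
            exact congrArg CommaMorphism.left this
        rw [← hπ e₁, ← hπ e₂]
        exact f₁.symm.trans (h12 ▸ f₂)
      have hcancel : ∀ x : Po ⟶ X, lift γ⁻¹ (lift γ x ≫ a.act) ≫ a.act = x := fun x => by
        rw [← act_mul, inv_mul_cancel, act_one]
      have hx : x₁ = x₂ := by rw [← hcancel x₁, ← hcancel x₂, hc]
      let ρ : I.subscheme ⟶ T₀.toScheme := IsOpenImmersion.lift T₀.ι (r₀ ≫ O.ι ≫ q) (by
        rw [Scheme.Opens.range_ι]
        rintro _ ⟨w, rfl⟩
        exact ⟨_, (r₀ w).2, rfl⟩)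
      have hρ : ρ ≫ T₀.ι = r₀ ≫ O.ι ≫ q := IsOpenImmersion.lift_fac _ _ _
      have : Surjective ρ := ⟨fun t => by
        obtain ⟨w, hwO, hwt⟩ := t.2
        obtain ⟨w', hw'⟩ := Set.range_eq_univ.1 hr ⟨w, hwO⟩
        refine ⟨w', T₀.ι.isOpenEmbedding.injective ?_⟩
        rw [← Scheme.Hom.comp_apply, hρ, Scheme.Hom.comp_apply, hw']
        exact hwt⟩
      have : IsReduced T₀.toScheme := isReduced_of_isOpenImmersion T₀.ι
      refine eq_of_surjective X.hom (T₀.ι ≫ g₁) (T₀.ι ≫ g₂) ?_ ρ ?_
      · rw [Category.assoc, Category.assoc, hw]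
      · rw [← Category.assoc, ← Category.assoc, hρ]
        have := congrArg CommaMorphism.left hx
        simp only [x₁, x₂, π, Over.comp_left, Category.assoc] at this ⊢
        exact this
  choose T₀ hmem heq using key
  have hsup : TopologicalSpace.IsOpenCover T₀ :=
    top_le_iff.1 fun x _ => TopologicalSpace.Opens.mem_iSup.2 ⟨x, hmem x⟩
  exact Scheme.Cover.hom_ext (T.openCoverOfIsOpenCover T₀ hsup) _ _ heq



end Groth.Agent.SepCrit
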