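import Groth.Agent.FpqcDescent.ReducedSub
import Mathlib.AlgebraicGeometry.Morphisms.Separated
import Mathlib.AlgebraicGeometry.Morphisms.Immersion
import Mathlib.AlgebraicGeometry.IdealSheaf.Subscheme

/-!
# Reduced test schemes for separatedness
-/

set_option autoImplicit false

universe u

open CategoryTheory CategoryTheory.Limits AlgebraicGeometry

namespace Groth.Agent.SepCrit

variable {X S : Scheme.{u}} (f : X ⟶ S)

theorem isIso_of_immersion_surjective {A B : Scheme.{u}} (e : A ⟶ B) [IsImmersion e] [Surjective e]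
    [IsReduced B] : IsIso e := by
  have : IsClosedImmersion e := IsClosedImmersion.of_isPreimmersion e
    (by rw [Set.range_eq_univ.2 e.surjective]; exact isClosed_univ)
  exact isIso_of_isClosedImmersion_of_surjective e

/-- Morphisms out of a reduced scheme over `S` which agree after a surjection are equal. -/
theorem eq_of_surjective {T P : Scheme.{u}} [IsReduced T] (g₁ g₂ : T ⟶ X) (hw : g₁ ≫ f = g₂ ≫ f)
    (r : P ⟶ T) [Surjective r] (h : r ≫ g₁ = r ≫ g₂) : g₁ = g₂ := by
  let L : T ⟶ pullback f f := pullback.lift g₁ g₂ hw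
  let e := pullback.fst L (pullback.diagonal f)
  let r' : P ⟶ pullback L (pullback.diagonal f) := pullback.lift r (r ≫ g₁) (by
    apply pullback.hom_ext
    · rw [Category.assoc, Category.assoc, Category.assoc, pullback.diagonal_fst, Category.comp_id,
        show L ≫ pullback.fst f f = g₁ from pullback.lift_fst _ _ _]
    · rw [Category.assoc, Category.assoc, Category.assoc, pullback.diagonal_snd, Category.comp_id,
        show L ≫ pullback.snd f f = g₂ from pullback.lift_snd _ _ _, h])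
  have : Surjective e := by
    have : Surjective (r' ≫ e) := by
      rw [show r' ≫ e = r from pullback.lift_fst _ _ _]; infer_instance
    exact Surjective.of_comp r' e
  have : IsIso e := isIso_of_immersion_surjective e
  have c := pullback.condition (f := L) (g := pullback.diagonal f)
  have c1 := c =≫ pullback.fst f f
  have c2 := c =≫ pullback.snd f f
  simp only [Category.assoc, L, pullback.lift_fst, pullback.lift_snd, pullback.diagonal_fst,
    pullback.diagonal_snd, Category.comp_id] at c1 c2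
  exact (cancel_epi e).1 (c1.trans c2.symm)

theorem reduced_test [IsSeparated f] {T : Scheme.{u}} [IsReduced T] (g₁ g₂ : T ⟶ X) (U : T.Opens)
    (hw : g₁ ≫ f = g₂ ≫ f) (hU : Dense (U : Set T)) (h : U.ι ≫ g₁ = U.ι ≫ g₂) : g₁ = g₂ := by
  have : IsDominant U.ι := ⟨by rw [DenseRange, Scheme.Opens.range_ι]; exact hU⟩
  exact ext_of_isDominant_of_isSeparated f hw U.ι h

theorem isSeparated_of_reduced_test
    (H : ∀ (T : Scheme.{u}) [IsReduced T] (g₁ g₂ : T ⟶ X) (U : T.Opens), g₁ ≫ f = g₂ ≫ f →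
      Dense (U : Set T) → U.ι ≫ g₁ = U.ι ≫ g₂ → g₁ = g₂) : IsSeparated f := by
  let Δ := pullback.diagonal f
  let Z : TopologicalSpace.Closeds ↥(pullback f f) := ⟨closure (Set.range Δ), isClosed_closure⟩
  let I := Scheme.IdealSheafData.vanishingIdeal Z
  let r := I.subschemeι
  have hr : Set.range r = closure (Set.range Δ) := by
    rw [Scheme.IdealSheafData.range_subschemeι, Scheme.IdealSheafData.coe_support_vanishingIdeal]
    simp [Z]
  obtain ⟨O, Zc, hO, hZc, hR⟩ := Δ.isLocallyClosed_range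
  have hpre : r ⁻¹' Set.range Δ = r ⁻¹' O := by
    ext z
    refine ⟨fun hz => (hR.le hz).1, fun hz => hR.ge ⟨hz, ?_⟩⟩
    exact closure_minimal (hR.le.trans Set.inter_subset_right) hZc (hr.le ⟨z, rfl⟩)
  let U : I.subscheme.Opens := ⟨r ⁻¹' O, hO.preimage r.continuous⟩
  have hUd : Dense (U : Set I.subscheme) := by
    intro z
    rw [r.isClosedEmbedding.isInducing.closure_eq_preimage_closure_image]
    show r z ∈ closure (r '' (r ⁻¹' O))
    rw [← hpre, Set.image_preimage_eq_of_subset (subset_closure.trans hr.ge)]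
    exact hr.le ⟨z, rfl⟩
  have hagree : U.ι ≫ r ≫ pullback.fst f f = U.ι ≫ r ≫ pullback.snd f f := by
    let m := U.ι ≫ r
    let e := pullback.fst m Δ
    have : Surjective e := ⟨by
      rw [← Set.range_eq_univ, Scheme.Pullback.range_fst, Set.eq_univ_iff_forall]
      intro w
      exact hpre.ge w.2⟩
    have : IsReduced U.toScheme := isReduced_of_isOpenImmersion U.ι
    have : IsIso e := isIso_of_immersion_surjective e
    have c := pullback.condition (f := m) (g := Δ)
    have c1 := c =≫ pullback.fst f f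
    have c2 := c =≫ pullback.snd f f
    simp only [Category.assoc, m, Δ, pullback.diagonal_fst, pullback.diagonal_snd, Category.comp_id] at c1 c2
    exact (cancel_epi e).1 (c1.trans c2.symm)
  have heq := H I.subscheme (r ≫ pullback.fst f f) (r ≫ pullback.snd f f) U
    (by rw [Category.assoc, Category.assoc, pullback.condition]) hUd hagree
  have hfac : r = (r ≫ pullback.fst f f) ≫ Δ := by
    apply pullback.hom_ext
    · simp [Δ]
    · simp [Δ, heq]
  have hsub : closure (Set.range Δ) ⊆ Set.range Δ := by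
    rw [← hr, hfac]
    rintro _ ⟨z, rfl⟩
    exact ⟨_, rfl⟩
  have hclosed : IsClosed (Set.range Δ) := closure_subset_iff_isClosed.1 hsub
  exact ⟨IsClosedImmersion.of_isPreimmersion Δ hclosed⟩

theorem isSeparated_iff_reduced_test :
    IsSeparated f ↔ ∀ (T : Scheme.{u}) [IsReduced T] (g₁ g₂ : T ⟶ X) (U : T.Opens), g₁ ≫ f = g₂ ≫ f →
      Dense (U : Set T) → U.ι ≫ g₁ = U.ι ≫ g₂ → g₁ = g₂ :=
  ⟨fun _ _ _ g₁ g₂ U hw hU h => reduced_test f g₁ g₂ U hw hU h, isSeparated_of_reduced_test f⟩

theorem isSeparated_iff_pairs :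
    IsSeparated f ↔ ∀ x₁ x₂ : X, f.base x₁ = f.base x₂ →
      ∃ V : X.Opens, x₁ ∈ V ∧ x₂ ∈ V ∧ IsSeparated (V.ι ≫ f) := by
  refine ⟨fun _ _ _ _ => ⟨⊤, trivial, trivial, inferInstance⟩, fun H => ?_⟩
  refine isSeparated_of_reduced_test f fun T _ g₁ g₂ U hw hU h => ?_
  have key : ∀ t : T, ∃ O : T.Opens, t ∈ O ∧ O.ι ≫ g₁ = O.ι ≫ g₂ := by
    intro t
    obtain ⟨V, h1, h2, hV⟩ := H (g₁ t) (g₂ t)
      (congrArg (fun (q : T ⟶ S) => q t) hw)
    let O : T.Opens := g₁ ⁻¹ᵁ V ⊓ g₂ ⁻¹ᵁ V
    refine ⟨O, ⟨h1, h2⟩, ?_⟩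
    have : IsReduced O.toScheme := isReduced_of_isOpenImmersion O.ι
    let a₁ := IsOpenImmersion.lift V.ι (O.ι ≫ g₁) (by
      rw [Scheme.Opens.range_ι]
      rintro _ ⟨w, rfl⟩
      exact w.2.1)
    let a₂ := IsOpenImmersion.lift V.ι (O.ι ≫ g₂) (by
      rw [Scheme.Opens.range_ι]
      rintro _ ⟨w, rfl⟩
      exact w.2.2)
    have e₁ : a₁ ≫ V.ι = O.ι ≫ g₁ := IsOpenImmersion.lift_fac _ _ _
    have e₂ : a₂ ≫ V.ι = O.ι ≫ g₂ := IsOpenImmersion.lift_fac _ _ _
    let U' : O.toScheme.Opens := O.ι ⁻¹ᵁ U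
    have hU' : Dense (U' : Set O.toScheme) := hU.preimage O.ι.isOpenEmbedding.isOpenMap
    have ha : a₁ = a₂ := by
      refine reduced_test (V.ι ≫ f) a₁ a₂ U' ?_ hU' ?_
      · rw [← Category.assoc, ← Category.assoc, e₁, e₂, Category.assoc, Category.assoc, hw]
      · rw [← cancel_mono V.ι, Category.assoc, Category.assoc, e₁, e₂]
        have hle : U'.ι ≫ O.ι = (O.ι ∣_ U) ≫ U.ι := (morphismRestrict_ι O.ι U).symm
        rw [← Category.assoc, ← Category.assoc, hle, Category.assoc, Category.assoc, h]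
    rw [← e₁, ← e₂, ha]
  choose O hO hOeq using key
  have hsup : TopologicalSpace.IsOpenCover O :=
    top_le_iff.1 fun x _ => TopologicalSpace.Opens.mem_iSup.2 ⟨x, hO x⟩
  exact Scheme.Cover.hom_ext (T.openCoverOfIsOpenCover O hsup) _ _ hOeq

end Groth.Agent.SepCrit
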